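import Cfsg.Agent.Lib.SL2Hom
import Cfsg.Agent.H859.PGLPres
import Cfsg.Agent.TwoFusion.SLTwoFacts

/-!
# `PSL₂(p)` from three elements (helper860)

`exists_hom` : elements `u h w` of a group with `u ^ p = 1`, `h ^ ((p - 1) / 2) = 1`, `h u = u ^ (k²) h` (`k` a primitive root
modulo `p`), `w² = (w h)² = (w u)³ = 1` and `w u ^ k w = u ^ j w h u ^ j` (`k j = -1`), with `u ≠ 1`, give an injective
homomorphism of `PSL₂(p)`.
`mk_injective` : a simple non-abelian subgroup of `H` embeds in `H` modulo the centre.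
-/

set_option autoImplicit false

namespace Cfsg.Agent.H860.TS.Base

open Matrix Cfsg.Agent.Lib.SL2Hom
open Cfsg.Agent.H859.PGLPres (U U_cast U_add conj_pow conj_pow')

/-- injectivity modulo the centre -/
theorem mk_injective {S H : Type*} [Group S] [Group H] [IsSimpleGroup S] {a b : S} (hS : a * b ≠ b * a)
    (f : S →* H) (hf : Function.Injective f) :
    Function.Injective ((QuotientGroup.mk' (Subgroup.center H)).comp f) := by
  rw [← MonoidHom.ker_eq_bot_iff]
  rcases (inferInstance : ((QuotientGroup.mk' (Subgroup.center H)).comp f).ker.Normal).eq_bot_or_eq_top with h | h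
  · exact h
  · exfalso
    have h1 : a ∈ ((QuotientGroup.mk' (Subgroup.center H)).comp f).ker := by rw [h]; trivial
    rw [MonoidHom.mem_ker] at h1
    have h2 : f a ∈ Subgroup.center H := (QuotientGroup.eq_one_iff (f a)).1 h1
    apply hS
    apply hf
    rw [map_mul, map_mul]
    exact (Subgroup.mem_center_iff.1 h2 (f b)).symm

/-- injectivity of a homomorphism of a simple group -/
theorem injective_of_ne {S H : Type*} [Group S] [Group H] [IsSimpleGroup S] (f : S →* H) {a : S} (ha : f a ≠ 1) :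
    Function.Injective f := by
  rw [← MonoidHom.ker_eq_bot_iff]
  rcases (inferInstance : f.ker.Normal).eq_bot_or_eq_top with h | h
  · exact h
  · exfalso
    apply ha
    have h1 : a ∈ f.ker := by rw [h]; trivial
    exact h1

/-- `PSL₂` is perfect -/
theorem psl_perfect {F : Type*} [Field F] [Fintype F] (hF : 3 < Fintype.card F) :
    commutator (ProjectiveSpecialLinearGroup (Fin 2) F) = ⊤ := by
  have h1 := TwoFusion.SLTwoFacts.commutator_eq_top hF
  have hsur : Function.Surjective (QuotientGroup.mk' (Subgroup.center (SpecialLinearGroup (Fin 2) F))) :=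
    QuotientGroup.mk'_surjective _
  have h3 := map_commutator_eq (SpecialLinearGroup (Fin 2) F) (QuotientGroup.mk' (Subgroup.center (SpecialLinearGroup (Fin 2) F)))
  rw [h1, MonoidHom.range_eq_top.2 hsur, ← MonoidHom.range_eq_map, MonoidHom.range_eq_top.2 hsur] at h3
  rw [commutator_def]
  exact h3.symm

/-- a perfect group maps to the commutator subgroup -/
theorem exists_commutator {S H : Type*} [Group S] [Group H] (hS : commutator S = ⊤) (f : S →* H)
    (hf : Function.Injective f) : ∃ g : S →* ↥(commutator H), Function.Injective g := by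
  have h1 : ∀ s, f s ∈ commutator H := by
    intro s
    have h2 : s ∈ commutator S := by rw [hS]; trivial
    have h3 : f s ∈ (commutator S).map f := ⟨s, h2, rfl⟩
    rw [map_commutator_eq] at h3
    exact Subgroup.commutator_mono le_top le_top h3
  refine ⟨f.codRestrict _ h1, ?_⟩
  intro a b hab
  exact hf (congrArg Subtype.val hab)

/-- `PSL₂` is not commutative -/
theorem psl_nc {F : Type*} [Field F] [Fintype F] (hF : 3 < Fintype.card F) :
    ∃ a b : ProjectiveSpecialLinearGroup (Fin 2) F, a * b ≠ b * a := by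
  by_contra hcon
  push Not at hcon
  have hs : IsSimpleGroup (ProjectiveSpecialLinearGroup (Fin 2) F) := TwoFusion.SLTwoFacts.isSimpleGroup_psl hF
  have h2 := psl_perfect hF
  have h3 : commutator (ProjectiveSpecialLinearGroup (Fin 2) F) = ⊥ := by
    rw [commutator_def, Subgroup.commutator_eq_bot_iff_le_centralizer]
    intro x _
    rw [Subgroup.mem_centralizer_iff]
    intro y _
    exact hcon y x
  rw [h2] at h3
  exact top_ne_bot h3

variable {K : Type*} [Group K] {p : ℕ} [hp : Fact p.Prime]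

/-- **the relations from three elements** -/
theorem exists_rel (u h w : K) (k j : ℕ) (hk : ∀ a : ZMod p, a ≠ 0 → ∃ n : ℕ, a = (k : ZMod p) ^ n)
    (hk0 : (k : ZMod p) ≠ 0) (hp2 : p ≠ 2) (hj : ((k * j : ℕ) : ZMod p) = -1)
    (hu : u ^ p = 1) (hh : h ^ ((p - 1) / 2) = 1) (h1 : h * u = u ^ (k * k) * h) (hw : w * w = 1)
    (h2 : w * h * (w * h) = 1) (h3 : w * u * (w * u) * (w * u) = 1)
    (h4 : w * u ^ k * w = u ^ j * w * h * u ^ j) :
    ∃ (x H : ZMod p → K), Rel x H w ∧ x 1 = u ∧ H (-1) = 1 := by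
  classical
  have hodd : p % 2 = 1 := (hp.out.eq_two_or_odd).resolve_left hp2
  have hne : ∀ n : ℕ, (k : ZMod p) ^ n ≠ 0 := fun n => pow_ne_zero n hk0
  let κ : (ZMod p)ˣ := Units.mk0 (k : ZMod p) hk0
  have hgen : ∀ x : (ZMod p)ˣ, x ∈ Subgroup.zpowers κ := by
    intro x
    obtain ⟨n, hn⟩ := hk (x : ZMod p) x.ne_zero
    refine ⟨n, ?_⟩
    apply Units.ext
    rw [hn]
    simp [κ]
  have ho : orderOf κ = p - 1 := by
    rw [orderOf_eq_card_of_forall_mem_zpowers hgen, Nat.card_eq_fintype_card, ZMod.card_units]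
  have hd : orderOf h ∣ (p - 1) / 2 := orderOf_dvd_of_pow_eq_one hh
  have hp1 : p - 1 = 2 * ((p - 1) / 2) := by
    have := hp.out.two_le
    omega
  have hd' : orderOf h ∣ p - 1 := hd.trans ⟨2, by omega⟩
  have hwd : ∀ m n : ℕ, (k : ZMod p) ^ m = (k : ZMod p) ^ n → h ^ m = h ^ n := by
    intro m n hmn
    have hmn' : κ ^ m = κ ^ n := by
      apply Units.ext
      rw [Units.val_pow_eq_pow_val, Units.val_pow_eq_pow_val]
      exact hmn
    rw [pow_eq_pow_iff_modEq, ho] at hmn'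
    rw [pow_eq_pow_iff_modEq]
    exact hmn'.of_dvd hd'
  let H : ZMod p → K := fun a => if ha : a ≠ 0 then h ^ (hk a ha).choose else 1
  have hH : ∀ n : ℕ, H ((k : ZMod p) ^ n) = h ^ n := by
    intro n
    have h5 : H ((k : ZMod p) ^ n) = h ^ (hk _ (hne n)).choose := dif_pos (hne n)
    rw [h5]
    exact hwd _ _ (hk _ (hne n)).choose_spec.symm
  have hHm : H (-1) = 1 := by
    obtain ⟨n, hn⟩ := hk (-1) (neg_ne_zero.2 one_ne_zero)
    rw [hn, hH]
    have h5 : κ ^ (2 * n) = 1 := by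
      apply Units.ext
      rw [Units.val_pow_eq_pow_val, Units.val_one]
      show (k : ZMod p) ^ (2 * n) = 1
      rw [mul_comm, pow_mul, ← hn]
      ring
    have h6 := orderOf_dvd_of_pow_eq_one h5
    rw [ho, hp1] at h6
    have h7 : (p - 1) / 2 ∣ n := Nat.dvd_of_mul_dvd_mul_left (by norm_num) h6
    exact orderOf_dvd_iff_pow_eq_one.1 (hd.trans h7)
  have hwi : w⁻¹ = w := inv_eq_of_mul_eq_one_left hw
  have hwh : w * h = h⁻¹ * w := by
    have h6 := eq_inv_of_mul_eq_one_left h2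
    rw [h6, _root_.mul_inv_rev, hwi]
  have hwhn : ∀ n : ℕ, w * h ^ n = (h ^ n)⁻¹ * w := by
    intro n
    induction n with
    | zero => simp
    | succ n ih => rw [pow_succ, ← mul_assoc, ih, mul_assoc, hwh, ← mul_assoc, ← _root_.mul_inv_rev, ← pow_succ', pow_succ]
  have hmul : ∀ a b, a ≠ 0 → b ≠ 0 → H (a * b) = H a * H b := by
    intro a b ha hb
    obtain ⟨m, rfl⟩ := hk a ha
    obtain ⟨n, rfl⟩ := hk b hb
    rw [← pow_add, hH, hH, hH, pow_add]
  have hinv : ∀ a, a ≠ 0 → H a⁻¹ = (H a)⁻¹ := by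
    intro a ha
    apply eq_inv_of_mul_eq_one_left
    rw [← hmul _ _ (inv_ne_zero ha) ha, inv_mul_cancel₀ ha]
    have := hH 0
    rwa [pow_zero, pow_zero] at this
  have hHx : ∀ a t, a ≠ 0 → H a * U u t = U u (a ^ 2 * t) * H a := by
    intro a t ha
    obtain ⟨m, rfl⟩ := hk a ha
    rw [hH]
    have h5 : U u t = u ^ t.val := rfl
    rw [h5, conj_pow' h1, ← U_cast hu]
    congr 2
    push_cast
    rw [ZMod.natCast_zmod_val]
    ring
  have hwH : ∀ a, a ≠ 0 → w * H a = H a⁻¹ * w := by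
    intro a ha
    rw [hinv a ha]
    obtain ⟨m, rfl⟩ := hk a ha
    rw [hH, hwhn]
  have hU1 : U u (1 : ZMod p) = u := by
    have := U_cast (p := p) hu 1
    rwa [Nat.cast_one, pow_one] at this
  have hUn : ∀ s : ZMod p, U u (-s) = (U u s)⁻¹ := by
    intro s
    apply eq_inv_of_mul_eq_one_left
    rw [← U_add hu, neg_add_cancel]
    unfold U
    rw [ZMod.val_zero, pow_zero]
  -- the relation for `1` and for `k`
  have hr1 : w * U u (1 : ZMod p) * w = U u (-(1 : ZMod p)⁻¹) * w * H (-1) * U u (-(1 : ZMod p)⁻¹) := by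
    rw [inv_one, hUn, hU1, hHm, mul_one]
    have h7 : (w * u * w) * (u * w * u) = 1 := by
      rw [← h3]
      simp only [mul_assoc]
    rw [eq_inv_of_mul_eq_one_left h7, _root_.mul_inv_rev, _root_.mul_inv_rev, hwi]
    simp only [mul_assoc]
  have hjk : -((k : ZMod p))⁻¹ = (j : ZMod p) := by
    rw [neg_eq_iff_eq_neg, inv_eq_iff_eq_inv, eq_comm]
    apply inv_eq_of_mul_eq_one_right
    rw [Nat.cast_mul] at hj
    linear_combination -hj
  have hrk : w * U u (k : ZMod p) * w = U u (-(k : ZMod p)⁻¹) * w * H (-(k : ZMod p)) * U u (-(k : ZMod p)⁻¹) := by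
    rw [hjk, U_cast hu, U_cast hu, h4]
    congr 2
    rw [neg_eq_neg_one_mul, hmul _ _ (neg_ne_zero.2 one_ne_zero) hk0, hHm, one_mul]
    have := hH 1
    rw [pow_one, pow_one] at this
    rw [this]
  -- the general relation
  have hstep : ∀ a s : ZMod p, a ≠ 0 → s ≠ 0 →
      w * U u s * w = U u (-s⁻¹) * w * H (-s) * U u (-s⁻¹) →
      w * U u (a ^ 2 * s) * w = U u (-(a ^ 2 * s)⁻¹) * w * H (-(a ^ 2 * s)) * U u (-(a ^ 2 * s)⁻¹) := by
    intro a s ha hs hr
    have e1 : U u (a ^ 2 * s) = H a * U u s * (H a)⁻¹ := by rw [eq_mul_inv_iff_mul_eq, ← hHx a s ha]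
    have e2 : (H a)⁻¹ * w = w * H a := by rw [← hinv a ha, ← hwH a ha]
    have e2' : w * (H a)⁻¹ = H a * w := by
      rw [← hinv a ha, hwH _ (inv_ne_zero ha), inv_inv]
    have e3 : (H a)⁻¹ * U u (-s⁻¹) = U u (-(a ^ 2 * s)⁻¹) * (H a)⁻¹ := by
      rw [← hinv a ha, hHx _ _ (inv_ne_zero ha)]
      congr 2
      field_simp
    have e4 : U u (-s⁻¹) * H a = H a * U u (-(a ^ 2 * s)⁻¹) := by
      have h5 := hHx a (-(a ^ 2 * s)⁻¹) ha
      rw [h5]
      congr 2
      field_simp
    calc w * U u (a ^ 2 * s) * w = (w * H a) * U u s * ((H a)⁻¹ * w) := by rw [e1]; simp only [mul_assoc]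
      _ = ((H a)⁻¹ * w) * U u s * (w * H a) := by rw [e2]
      _ = (H a)⁻¹ * (w * U u s * w) * H a := by simp only [mul_assoc]
      _ = ((H a)⁻¹ * U u (-s⁻¹)) * w * H (-s) * (U u (-s⁻¹) * H a) := by rw [hr]; simp only [mul_assoc]
      _ = U u (-(a ^ 2 * s)⁻¹) * ((H a)⁻¹ * w) * H (-s) * (H a * U u (-(a ^ 2 * s)⁻¹)) := by
          rw [e3, e4]; simp only [mul_assoc]
      _ = U u (-(a ^ 2 * s)⁻¹) * w * (H a * H (-s) * H a) * U u (-(a ^ 2 * s)⁻¹) := by
          rw [e2]; simp only [mul_assoc]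
      _ = _ := by
          rw [← hmul _ _ ha (neg_ne_zero.2 hs), ← hmul _ _ (mul_ne_zero ha (neg_ne_zero.2 hs)) ha]
          congr 3
          ring
  refine ⟨U u, H, ⟨U_add hu, hmul, hHx, hwH, ?_, ?_⟩, hU1, hHm⟩
  · rw [hHm, hw]
  · intro t ht
    obtain ⟨m, rfl⟩ := hk t ht
    rcases Nat.even_or_odd' m with ⟨r, hr | hr⟩
    · have h5 := hstep ((k : ZMod p) ^ r) 1 (hne r) one_ne_zero hr1
      have h6 : ((k : ZMod p) ^ r) ^ 2 * 1 = (k : ZMod p) ^ m := by
        rw [mul_one, ← pow_mul, hr, mul_comm]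
      rwa [h6] at h5
    · have h5 := hstep ((k : ZMod p) ^ r) k (hne r) hk0 hrk
      have h6 : ((k : ZMod p) ^ r) ^ 2 * k = (k : ZMod p) ^ m := by
        rw [← pow_mul, ← pow_succ, hr, mul_comm r 2]
      rwa [h6] at h5

/-- **`PSL₂(p)` from three elements** -/
theorem exists_hom (u h w : K) (k j : ℕ) (hk : ∀ a : ZMod p, a ≠ 0 → ∃ n : ℕ, a = (k : ZMod p) ^ n)
    (hk0 : (k : ZMod p) ≠ 0) (hp3 : 3 < p) (hj : ((k * j : ℕ) : ZMod p) = -1)
    (hu : u ^ p = 1) (hh : h ^ ((p - 1) / 2) = 1) (h1 : h * u = u ^ (k * k) * h) (hw : w * w = 1)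
    (h2 : w * h * (w * h) = 1) (h3 : w * u * (w * u) * (w * u) = 1)
    (h4 : w * u ^ k * w = u ^ j * w * h * u ^ j) (hu1 : u ≠ 1) :
    ∃ f : ProjectiveSpecialLinearGroup (Fin 2) (ZMod p) →* K, Function.Injective f := by
  obtain ⟨x, H, hR, hx1, hHm⟩ := exists_rel u h w k j hk hk0 (by omega) hj hu hh h1 hw h2 h3 h4
  have hle : Subgroup.center (SpecialLinearGroup (Fin 2) (ZMod p)) ≤ (hom hR).ker := by
    intro A hA
    rw [Matrix.SpecialLinearGroup.mem_center_iff] at hA
    obtain ⟨r, hr, hA⟩ := hA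
    rw [Fintype.card_fin] at hr
    have hr' : r = 1 ∨ r = -1 := mul_self_eq_one_iff.1 (by rw [← pow_two]; exact hr)
    have h00 : A.1 0 0 = r := by rw [← hA]; simp
    have h10 : A.1 1 0 = 0 := by rw [← hA]; simp
    have h01 : A.1 0 1 = 0 := by rw [← hA]; simp
    rw [MonoidHom.mem_ker, hom_of_eq hR h10, h00, h01, mul_zero, Rel.x_zero hR, one_mul]
    rcases hr' with rfl | rfl
    · exact Rel.h_one hR
    · exact hHm
  have hs : IsSimpleGroup (ProjectiveSpecialLinearGroup (Fin 2) (ZMod p)) :=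
    TwoFusion.SLTwoFacts.isSimpleGroup_psl (by rw [ZMod.card]; exact hp3)
  let f : ProjectiveSpecialLinearGroup (Fin 2) (ZMod p) →* K := QuotientGroup.lift _ (hom hR) hle
  refine ⟨f, injective_of_ne f (a := QuotientGroup.mk (up 1)) ?_⟩
  show hom hR (up 1) ≠ 1
  rw [hom_up, hx1]
  exact hu1

end Cfsg.Agent.H860.TS.Base
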