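import Cfsg.Agent.H860.TS.Base
import Cfsg.Agent.H944.TS.Iface
import Cfsg.Agent.UGT.U2.Rec.Congr

/-!
# `PSL₂(13)` is a subgroup of `Ω₇(3)` (helper860)

The matrices come from the extended quadratic residue code of length 14 over the field with three elements.
-/

set_option autoImplicit false
set_option maxRecDepth 100000

namespace Cfsg.Agent.H860.TS.OSeven

open Matrix Cfsg Cfsg.Agent.OrdDiv Cfsg.Agent.H944.TS

universe u

/-- coordinates -/
def idx7 : Unit ⊕ (Fin 3 ⊕ Fin 3) → ℕ := Sum.elim (fun _ => 0) (Sum.elim (fun i => 1 + i.val) (fun i => 4 + i.val))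

abbrev M := Matrix (Unit ⊕ (Fin 3 ⊕ Fin 3)) (Unit ⊕ (Fin 3 ⊕ Fin 3)) (ZMod 3)

/-- a packed matrix -/
def mk (T : ℕ) : M :=
  Matrix.of fun i j => ((T / 4 ^ (7 * idx7 i + idx7 j) % 4 : ℕ) : ZMod 3)

/-- powers of the element of order 13 -/
def uL : List ℕ := [79229371458530977775699951617, 200010732226471764987199100057, 125534975260190426514793237058, 11245884051662664049752606729, 6815928592798977369391073945, 101634814564055474579971909142, 44575864958263457529836775702, 198160521031604760621050331410, 27705597654265859762026793030, 50859672836876172137667313921, 204885725986110018480637219985, 100621427183784851909175754818, 159719806729819568593988227073, 79229371458530977775699951617]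
/-- powers of the element of order 6 -/
def hL : List ℕ := [79229371458530977775699951617, 19895302248451676974277197826, 52465383158412372223926992897, 200004867146416273135484600322, 101820681947906951037554262017, 9915912548749709283409526786, 79229371458530977775699951617]
/-- the involution -/
def wC : ℕ := 2952314921062210442411119617

def uC (n : Fin 14) : ℕ := uL.getD n.val 0
def hC (n : Fin 7) : ℕ := hL.getD n.val 0

/-- the pairing of the coordinates -/
def sw : Unit ⊕ (Fin 3 ⊕ Fin 3) → Unit ⊕ (Fin 3 ⊕ Fin 3) :=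
  Sum.elim Sum.inl (Sum.elim (fun i => .inr (.inr i)) (fun i => .inr (.inl i)))

/-- the coefficients -/
def cc : Unit ⊕ (Fin 3 ⊕ Fin 3) → ZMod 3 := Sum.elim (fun _ => 2) (fun _ => 1)

/-- the polar form -/
def G : M := Matrix.of fun i j => if sw i = j then cc i else 0

theorem G_mulVec (v : Unit ⊕ (Fin 3 ⊕ Fin 3) → ZMod 3) (i : Unit ⊕ (Fin 3 ⊕ Fin 3)) : (G *ᵥ v) i = cc i * v (sw i) := by
  simp only [Matrix.mulVec, dotProduct, G, Matrix.of_apply, ite_mul, zero_mul]
  rw [Finset.sum_ite_eq Finset.univ (sw i) (fun j => cc i * v j), if_pos (Finset.mem_univ _)]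

theorem aux {R : Type*} [CommRing R] (h3 : (3 : R) = 0) (x S : R) : x ^ 2 + S = 2 * (x * (2 * x) + (S + S)) := by
  linear_combination (-(x ^ 2) - S) * h3

theorem G_form (v : Unit ⊕ (Fin 3 ⊕ Fin 3) → ZMod 3) : quadFormOdd 3 (ZMod 3) v = 2 * (v ⬝ᵥ G *ᵥ v) := by
  have h1 : v ⬝ᵥ G *ᵥ v = ∑ i, v i * (cc i * v (sw i)) := Finset.sum_congr rfl fun i _ => by rw [G_mulVec]
  rw [h1, Fintype.sum_sum_type, Fintype.sum_sum_type]
  simp only [quadFormOdd, cc, sw, Sum.elim_inl, Sum.elim_inr, Finset.univ_unique, Finset.sum_singleton, one_mul]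
  have h2 : ∑ i : Fin 3, v (.inr (.inr i)) * v (.inr (.inl i)) = ∑ i : Fin 3, v (.inr (.inl i)) * v (.inr (.inr i)) :=
    Finset.sum_congr rfl fun i _ => mul_comm _ _
  rw [h2]
  exact aux (by decide) _ _

theorem preserves {A : M} (hA : Aᵀ * G * A = G) (v : Unit ⊕ (Fin 3 ⊕ Fin 3) → ZMod 3) :
    quadFormOdd 3 (ZMod 3) (A *ᵥ v) = quadFormOdd 3 (ZMod 3) v := by
  have key : (A *ᵥ v) ⬝ᵥ (G *ᵥ (A *ᵥ v)) = v ⬝ᵥ (G *ᵥ v) := by
    conv_rhs => rw [← hA]
    rw [← Matrix.mulVec_mulVec, ← Matrix.mulVec_mulVec, Matrix.dotProduct_mulVec v, Matrix.vecMul_transpose]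
  rw [G_form, G_form, key]

theorem memU : ∀ n : Fin 14, (mk (uC n))ᵀ * G * mk (uC n) = G := by decide +kernel
theorem memH : ∀ n : Fin 7, (mk (hC n))ᵀ * G * mk (hC n) = G := by decide +kernel
theorem memW : (mk wC)ᵀ * G * mk wC = G := by decide +kernel

theorem u_inv : ∀ n : Fin 14, mk (uC n) * mk (uC (Fin.rev n)) = 1 ∧ mk (uC (Fin.rev n)) * mk (uC n) = 1 := by
  decide +kernel
theorem h_inv : ∀ n : Fin 7, mk (hC n) * mk (hC (Fin.rev n)) = 1 ∧ mk (hC (Fin.rev n)) * mk (hC n) = 1 := by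
  decide +kernel
theorem w_w : mk wC * mk wC = 1 := by decide +kernel

/-- the isometry group -/
abbrev O7 := ↥(isometryGroup (ZMod 3) (quadFormOdd 3 (ZMod 3)))

def gU (n : Fin 14) : O7 := ⟨⟨mk (uC n), mk (uC (Fin.rev n)), (u_inv n).1, (u_inv n).2⟩, fun v _ => preserves (memU n) v⟩
def gH (n : Fin 7) : O7 := ⟨⟨mk (hC n), mk (hC (Fin.rev n)), (h_inv n).1, (h_inv n).2⟩, fun v _ => preserves (memH n) v⟩
def gW : O7 := ⟨⟨mk wC, mk wC, w_w, w_w⟩, fun v _ => preserves memW v⟩

theorem ext' {a b : O7} (h : (a.1.1 : M) = b.1.1) : a = b := Subtype.ext (Units.ext h)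

theorem u_zero : mk (uC 0) = 1 := by decide +kernel
theorem u_last : mk (uC 13) = 1 := by decide +kernel
theorem h_zero : mk (hC 0) = 1 := by decide +kernel
theorem h_last : mk (hC 6) = 1 := by decide +kernel
theorem u_succ : ∀ n : Fin 13, mk (uC n.castSucc) * mk (uC 1) = mk (uC n.succ) := by decide +kernel
theorem h_succ : ∀ n : Fin 6, mk (hC n.castSucc) * mk (hC 1) = mk (hC n.succ) := by decide +kernel
theorem u_ne : mk (uC 1) ≠ 1 := by decide +kernel
theorem h_u : mk (hC 1) * mk (uC 1) = mk (uC 4) * mk (hC 1) := by decide +kernel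
theorem wh : mk wC * mk (hC 1) * (mk wC * mk (hC 1)) = 1 := by decide +kernel
theorem wu : mk wC * mk (uC 1) * (mk wC * mk (uC 1)) * (mk wC * mk (uC 1)) = 1 := by decide +kernel
theorem wuk : mk wC * mk (uC 2) * mk wC = mk (uC 6) * mk wC * mk (hC 1) * mk (uC 6) := by decide +kernel

theorem gU_pow : ∀ n : ℕ, (hn : n < 14) → gU 1 ^ n = gU ⟨n, hn⟩ := by
  intro n
  induction n with
  | zero => intro _; rw [pow_zero]; exact ext' u_zero.symm
  | succ n ih =>
    intro hn
    rw [pow_succ, ih (by omega)]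
    exact ext' (u_succ ⟨n, by omega⟩)

theorem gH_pow : ∀ n : ℕ, (hn : n < 7) → gH 1 ^ n = gH ⟨n, hn⟩ := by
  intro n
  induction n with
  | zero => intro _; rw [pow_zero]; exact ext' h_zero.symm
  | succ n ih =>
    intro hn
    rw [pow_succ, ih (by omega)]
    exact ext' (h_succ ⟨n, by omega⟩)

instance fact13 : Fact (Nat.Prime 13) := ⟨by norm_num⟩

theorem exists_hom : ∃ f : ProjectiveSpecialLinearGroup (Fin 2) (ZMod 13) →* O7, Function.Injective f := by
  refine TS.Base.exists_hom (p := 13) (gU 1) (gH 1) gW 2 6 ?_ (by decide) (by norm_num) (by decide) ?_ ?_ ?_ ?_ ?_ ?_ ?_ ?_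
  · have h : ∀ a : ZMod 13, a ≠ 0 → ∃ n : Fin 12, a = ((2 : ℕ) : ZMod 13) ^ n.val := by decide +kernel
    intro a ha
    obtain ⟨n, hn⟩ := h a ha
    exact ⟨n.val, hn⟩
  · rw [gU_pow 13 (by norm_num)]
    exact ext' u_last
  · rw [gH_pow ((13 - 1) / 2) (by norm_num)]
    exact ext' h_last
  · rw [gU_pow (2 * 2) (by norm_num)]
    exact ext' h_u
  · exact ext' w_w
  · exact ext' wh
  · exact ext' wu
  · rw [gU_pow 2 (by norm_num), gU_pow 6 (by norm_num)]
    exact ext' wuk
  · intro h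
    exact u_ne (congrArg (fun a : O7 => (a.1.1 : M)) h)

theorem exists_hom' : ∃ f : ProjectiveSpecialLinearGroup (Fin 2) (ZMod 13) →* POmega (ZMod 3) (quadFormOdd 3 (ZMod 3)),
    Function.Injective f := by
  obtain ⟨f, hf⟩ := exists_hom
  have hc : 3 < Fintype.card (ZMod 13) := by rw [ZMod.card]; norm_num
  have hs : IsSimpleGroup (ProjectiveSpecialLinearGroup (Fin 2) (ZMod 13)) := TwoFusion.SLTwoFacts.isSimpleGroup_psl hc
  obtain ⟨a, b, hab⟩ := TS.Base.psl_nc (F := ZMod 13) hc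
  obtain ⟨g, hg⟩ := TS.Base.exists_commutator (TS.Base.psl_perfect hc) f hf
  exact ⟨_, TS.Base.mk_injective hab g hg⟩

/-- **A7**: `L₂(13) ≤ Ω₇(3)` -/
theorem sub : Sub.{u} (.oodd 3 3) (.psl 2 13) := by
  rintro X _ ⟨F, _, _, hF, ⟨e⟩⟩
  obtain ⟨f, hf⟩ := exists_hom'
  obtain ⟨e'⟩ := Cfsg.Agent.UGT.U2.Rec.Congr.nonempty_POmegaOdd (ZMod.ringEquivOfPrime F Nat.prime_three hF) 3
  let g : ProjectiveSpecialLinearGroup (Fin 2) (ZMod 13) →* X :=
    (e.symm.toMonoidHom.comp e'.toMonoidHom).comp f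
  have hg : Function.Injective g := (e.symm.injective.comp e'.injective).comp hf
  exact ⟨g.range, ZMod 13, inferInstance, inferInstance, ZMod.card 13, ⟨(MonoidHom.ofInjective hg).symm⟩⟩

end Cfsg.Agent.H860.TS.OSeven
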