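import Cfsg.Agent.H860.TS.Base
import Cfsg.Agent.H944.TS.Iface
import Cfsg.Agent.LieClassical.FieldTransfer

/-!
# `PSL₂(17)` is a subgroup of `PSp₈(2)` (helper860)

The matrices come from the extended quadratic residue code of length 18 modulo the all-one word.
-/

set_option autoImplicit false
set_option maxRecDepth 100000

namespace Cfsg.Agent.H860.TS.SpEight

open Matrix Cfsg Cfsg.Agent.OrdDiv Cfsg.Agent.H944.TS

universe u

/-- coordinates -/
def idx8 : Fin 4 ⊕ Fin 4 → ℕ := Sum.elim (fun i => i.val) (fun i => 4 + i.val)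

/-- a packed matrix -/
def mk (T : ℕ) : Matrix (Fin 4 ⊕ Fin 4) (Fin 4 ⊕ Fin 4) (ZMod 2) :=
  Matrix.of fun i j => if Nat.testBit T (8 * idx8 i + idx8 j) then 1 else 0

/-- powers of the element of order 17 -/
def uL : List ℕ := [9241421688590303745, 585485942241766768, 14416124639791801964, 16167072195260799926, 4105736364922956071, 9548045331950043139, 5077989270265923677, 4874115389967157386, 9031440770008146157, 11105743759130507470, 12792223817559344259, 3754816334703969877, 200850349609861954, 3283216705939406093, 16596945920490117878, 6571421737714168071, 16816792991922467859, 9241421688590303745]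
/-- powers of the element of order 8 -/
def hL : List ℕ := [9241421688590303745, 606903333935676746, 16183452882885312753, 4854593581923305556, 6597994575773229069, 16597399093892760470, 164317157270248212, 9036211121034749537, 9241421688590303745]
/-- the involution -/
def wC : ℕ := 12844542263568034634

def uC (n : Fin 18) : ℕ := uL.getD n.val 0
def hC (n : Fin 9) : ℕ := hL.getD n.val 0

theorem memU : ∀ n : Fin 18, mk (uC n) * Matrix.J (Fin 4) (ZMod 2) * (mk (uC n))ᵀ = Matrix.J (Fin 4) (ZMod 2) := by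
  decide +kernel

theorem memH : ∀ n : Fin 9, mk (hC n) * Matrix.J (Fin 4) (ZMod 2) * (mk (hC n))ᵀ = Matrix.J (Fin 4) (ZMod 2) := by
  decide +kernel

theorem memW : mk wC * Matrix.J (Fin 4) (ZMod 2) * (mk wC)ᵀ = Matrix.J (Fin 4) (ZMod 2) := by
  decide +kernel

abbrev Sp := Matrix.symplecticGroup (Fin 4) (ZMod 2)

def gU (n : Fin 18) : Sp := ⟨mk (uC n), memU n⟩
def gH (n : Fin 9) : Sp := ⟨mk (hC n), memH n⟩
def gW : Sp := ⟨mk wC, memW⟩

theorem u_zero : mk (uC 0) = 1 := by decide +kernel
theorem u_last : mk (uC 17) = 1 := by decide +kernel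
theorem h_zero : mk (hC 0) = 1 := by decide +kernel
theorem h_last : mk (hC 8) = 1 := by decide +kernel
theorem u_succ : ∀ n : Fin 17, mk (uC n.castSucc) * mk (uC 1) = mk (uC n.succ) := by decide +kernel
theorem h_succ : ∀ n : Fin 8, mk (hC n.castSucc) * mk (hC 1) = mk (hC n.succ) := by decide +kernel
theorem u_ne : mk (uC 1) ≠ 1 := by decide +kernel
theorem w_w : mk wC * mk wC = 1 := by decide +kernel
theorem h_u : mk (hC 1) * mk (uC 1) = mk (uC 9) * mk (hC 1) := by decide +kernel
theorem wh : mk wC * mk (hC 1) * (mk wC * mk (hC 1)) = 1 := by decide +kernel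
theorem wu : mk wC * mk (uC 1) * (mk wC * mk (uC 1)) * (mk wC * mk (uC 1)) = 1 := by decide +kernel
theorem wuk : mk wC * mk (uC 3) * mk wC = mk (uC 11) * mk wC * mk (hC 1) * mk (uC 11) := by decide +kernel

theorem gU_pow : ∀ n : ℕ, (hn : n < 18) → gU 1 ^ n = gU ⟨n, hn⟩ := by
  intro n
  induction n with
  | zero => intro _; rw [pow_zero]; exact Subtype.ext u_zero.symm
  | succ n ih =>
    intro hn
    rw [pow_succ, ih (by omega)]
    exact Subtype.ext (u_succ ⟨n, by omega⟩)

theorem gH_pow : ∀ n : ℕ, (hn : n < 9) → gH 1 ^ n = gH ⟨n, hn⟩ := by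
  intro n
  induction n with
  | zero => intro _; rw [pow_zero]; exact Subtype.ext h_zero.symm
  | succ n ih =>
    intro hn
    rw [pow_succ, ih (by omega)]
    exact Subtype.ext (h_succ ⟨n, by omega⟩)

instance fact17 : Fact (Nat.Prime 17) := ⟨by norm_num⟩

theorem exists_hom : ∃ f : ProjectiveSpecialLinearGroup (Fin 2) (ZMod 17) →* Sp, Function.Injective f := by
  refine TS.Base.exists_hom (p := 17) (gU 1) (gH 1) gW 3 11 ?_ (by decide) (by norm_num) (by decide) ?_ ?_ ?_ ?_ ?_ ?_ ?_ ?_
  · have h : ∀ a : ZMod 17, a ≠ 0 → ∃ n : Fin 16, a = ((3 : ℕ) : ZMod 17) ^ n.val := by decide +kernel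
    intro a ha
    obtain ⟨n, hn⟩ := h a ha
    exact ⟨n.val, hn⟩
  · rw [gU_pow 17 (by norm_num)]
    exact Subtype.ext u_last
  · rw [gH_pow ((17 - 1) / 2) (by norm_num)]
    exact Subtype.ext h_last
  · rw [gU_pow (3 * 3) (by norm_num)]
    exact Subtype.ext h_u
  · exact Subtype.ext w_w
  · exact Subtype.ext wh
  · exact Subtype.ext wu
  · rw [gU_pow 3 (by norm_num), gU_pow 11 (by norm_num)]
    exact Subtype.ext wuk
  · intro h
    exact u_ne (congrArg Subtype.val h)

theorem exists_hom' : ∃ f : ProjectiveSpecialLinearGroup (Fin 2) (ZMod 17) →* PSp 4 (ZMod 2), Function.Injective f := by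
  obtain ⟨f, hf⟩ := exists_hom
  have hs : IsSimpleGroup (ProjectiveSpecialLinearGroup (Fin 2) (ZMod 17)) :=
    TwoFusion.SLTwoFacts.isSimpleGroup_psl (by rw [ZMod.card]; norm_num)
  obtain ⟨a, b, hab⟩ := TS.Base.psl_nc (F := ZMod 17) (by rw [ZMod.card]; norm_num)
  exact ⟨_, TS.Base.mk_injective hab f hf⟩

/-- **A6**: `L₂(17) ≤ Sp₈(2)` -/
theorem sub : Sub.{u} (.psp 4 2) (.psl 2 17) := by
  rintro X _ ⟨F, _, _, hF, ⟨e⟩⟩
  obtain ⟨f, hf⟩ := exists_hom'
  let σ : ZMod 2 ≃+* F := ZMod.ringEquivOfPrime F Nat.prime_two hF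
  let g : ProjectiveSpecialLinearGroup (Fin 2) (ZMod 17) →* X :=
    (e.symm.toMonoidHom.comp (LieClassical.FieldTransfer.pspCongr 4 σ).toMonoidHom).comp f
  have hg : Function.Injective g := (e.symm.injective.comp (LieClassical.FieldTransfer.pspCongr 4 σ).injective).comp hf
  exact ⟨g.range, ZMod 17, inferInstance, inferInstance, ZMod.card 17, ⟨(MonoidHom.ofInjective hg).symm⟩⟩

end Cfsg.Agent.H860.TS.SpEight
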