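import Cfsg.Agent.H860.TS.Base
import Cfsg.Agent.H944.TS.Iface
import Cfsg.Agent.LieClassical.FieldTransfer
import Cfsg.Agent.J2.HundredAbs
import Cfsg.Agent.S0283

/-!
# `PSU₃(3)` is a subgroup of `PSp₆(2)` (helper860)

The 63 non-isotropic points of the unitary plane are 63 lines of the symplectic space of dimension 6 over the field with
two elements (the lines of the generalised hexagon).
-/

set_option autoImplicit false
set_option maxRecDepth 100000

namespace Cfsg.Agent.H860.TS.SpSix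

open Matrix Cfsg Cfsg.Agent.OrdDiv Cfsg.Agent.H944.TS Cfsg.Agent.J2

universe u

/-- coordinates -/
def idx6 : Fin 3 ⊕ Fin 3 → ℕ := Sum.elim (fun i => i.val) (fun i => 3 + i.val)

abbrev V := Fin 3 ⊕ Fin 3 → ZMod 2

/-- a packed matrix -/
def mk (T : ℕ) : Matrix (Fin 3 ⊕ Fin 3) (Fin 3 ⊕ Fin 3) (ZMod 2) :=
  Matrix.of fun i j => if Nat.testBit T (6 * idx6 i + idx6 j) then 1 else 0

/-- a packed vector -/
def vc (T : ℕ) : V := fun i => if Nat.testBit T (idx6 i) then 1 else 0

/-- the matrices -/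
def mL : List ℕ := [35301485235, 12827242630, 20497111297, 52889141697]

/-- the lines, packed -/
def lC : ℕ := 91681698318195202762278796785353540947652598000386842383723248715651963120707077467444291541504505590296349606639221080478549779341812547390487157294371696318948961866541588675491172996133361672812803338990038059887233143728614987238702414600947444571967112009779885422631268409271739365815336512861205938947378453387731600833492680729440385

def mC (s : Fin 4) : ℕ := mL.getD s.val 0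
/-- the points of the lines -/
def pt (i : Fin 63) (t : Fin 3) : V := vc (lC / 64 ^ (3 * i.val + t.val) % 64)

abbrev Sp := Matrix.symplecticGroup (Fin 3) (ZMod 2)

/-- the pairs (matrix, permutation) compatible with a relation -/
def Lg (P : Fin 63 → V → Prop) : Subgroup (Sp × Equiv.Perm (Fin 63)) where
  carrier := {x | ∀ i v, P i v ↔ P (x.2 i) ((x.1 : Matrix _ _ (ZMod 2)) *ᵥ v)}
  one_mem' := by
    intro i v
    rw [Prod.fst_one, Prod.snd_one, Submonoid.coe_one, Matrix.one_mulVec, Equiv.Perm.one_apply]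
  mul_mem' := by
    intro a b ha hb i v
    rw [Prod.fst_mul, Prod.snd_mul, Submonoid.coe_mul, ← Matrix.mulVec_mulVec, Equiv.Perm.mul_apply, ← ha, ← hb]
  inv_mem' := by
    intro a ha i v
    rw [Prod.fst_inv, Prod.snd_inv]
    have h1 := ha (a.2⁻¹ i) (((a.1⁻¹ : Sp) : Matrix _ _ (ZMod 2)) *ᵥ v)
    have h0 : a.2 (a.2⁻¹ i) = i := Equiv.apply_symm_apply a.2 i
    rw [Matrix.mulVec_mulVec, h0] at h1
    have h2 : (a.1 : Matrix (Fin 3 ⊕ Fin 3) (Fin 3 ⊕ Fin 3) (ZMod 2)) * ((a.1⁻¹ : Sp) : Matrix _ _ (ZMod 2)) = 1 := by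
      rw [← Submonoid.coe_mul, mul_inv_cancel, Submonoid.coe_one]
    rw [h2, Matrix.one_mulVec] at h1
    exact h1.symm

theorem memA : ∀ s : Fin 4, mk (mC s) * Matrix.J (Fin 3) (ZMod 2) * (mk (mC s))ᵀ = Matrix.J (Fin 3) (ZMod 2) := by
  decide +kernel

theorem a_a : ∀ s : Fin 4, mk (mC s) * mk (mC s) = 1 := by decide +kernel

/-- the four symplectic matrices -/
def gA (s : Fin 4) : Sp := ⟨mk (mC s), memA s⟩

theorem act : ∀ (s : Fin 4) (i : Fin 63) (t : Fin 3), ∃ t' : Fin 3, mk (mC s) *ᵥ pt i t = pt (U33.tab s i) t' := by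
  decide +kernel

/-- membership in a line -/
def On (i : Fin 63) (v : V) : Prop := ∃ t : Fin 3, v = pt i t

instance onDec (i : Fin 63) (v : V) : Decidable (On i v) := by unfold On; infer_instance

/-- different lines have different points -/
theorem line_inj : ∀ i j : Fin 63, (∀ t : Fin 3, On j (pt i t)) → i = j := by decide +kernel

/-- the basis vectors are intersections of two lines -/
def b1 : Fin 3 ⊕ Fin 3 → Fin 63 := Sum.elim ![0, 0, 2] ![12, 3, 13]
def b2 : Fin 3 ⊕ Fin 3 → Fin 63 := Sum.elim ![1, 11, 3] ![26, 29, 14]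

theorem basis_on : ∀ k, On (b1 k) (Pi.single k 1) ∧ On (b2 k) (Pi.single k 1) := by decide +kernel
theorem basis_uniq : ∀ k (t t' : Fin 3), pt (b1 k) t = pt (b2 k) t' → pt (b1 k) t = Pi.single k 1 := by decide +kernel

/-- the pairs (matrix, permutation) compatible with the lines -/
abbrev L : Subgroup (Sp × Equiv.Perm (Fin 63)) := Lg On

theorem fst_one {σ : Equiv.Perm (Fin 63)} (h : ((1 : Sp), σ) ∈ L) : σ = 1 := by
  ext1 i
  symm
  apply line_inj i (σ i)
  intro t
  have h1 := (h i (pt i t)).1 ⟨t, rfl⟩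
  have h2 : (((1 : Sp) : Matrix (Fin 3 ⊕ Fin 3) (Fin 3 ⊕ Fin 3) (ZMod 2))) *ᵥ pt i t = pt i t := Matrix.one_mulVec _
  rw [h2] at h1
  exact h1

theorem snd_one {g : Sp} (h : (g, (1 : Equiv.Perm (Fin 63))) ∈ L) : g = 1 := by
  apply Subtype.ext
  have key : ∀ k, (g : Matrix (Fin 3 ⊕ Fin 3) (Fin 3 ⊕ Fin 3) (ZMod 2)) *ᵥ Pi.single k 1 = Pi.single k 1 := by
    intro k
    obtain ⟨h1, h2⟩ := basis_on k
    obtain ⟨t, ht⟩ := (h _ _).1 h1
    obtain ⟨t', ht'⟩ := (h _ _).1 h2
    have h3 : pt (b1 k) t = pt (b2 k) t' := ht.symm.trans ht'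
    exact ht.trans (basis_uniq k t t' h3)
  show (g : Matrix (Fin 3 ⊕ Fin 3) (Fin 3 ⊕ Fin 3) (ZMod 2)) = 1
  apply Matrix.ext
  intro i k
  have h1 := congrFun (key k) i
  rw [Matrix.mulVec_single_one] at h1
  rw [Matrix.one_apply]
  simpa [Pi.single_apply] using h1

theorem mem_L (s : Fin 4) : (gA s, U33.sig s) ∈ L := by
  have hf : ∀ i v, On i v → On (U33.sig s i) (mk (mC s) *ᵥ v) := by
    rintro i _ ⟨t, rfl⟩
    exact act s i t
  intro i v
  refine ⟨hf i v, fun h => ?_⟩
  have h1 := hf _ _ h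
  have h2 : U33.sig s (U33.sig s i) = i := U33.tab_tab s i
  have h3 : mk (mC s) *ᵥ (((gA s : Sp) : Matrix _ _ (ZMod 2)) *ᵥ v) = v := by
    show mk (mC s) *ᵥ (mk (mC s) *ᵥ v) = v
    rw [Matrix.mulVec_mulVec, a_a, Matrix.one_mulVec]
  rw [h3] at h1
  have h4 : On (U33.sig s (U33.sig s i)) v := h1
  rwa [h2] at h4

/-- the group generated by the four pairs -/
def S : Subgroup (Sp × Equiv.Perm (Fin 63)) := Subgroup.closure (Set.range fun s => (gA s, U33.sig s))

theorem S_le : S ≤ L := by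
  unfold S
  rw [Subgroup.closure_le]
  rintro _ ⟨s, rfl⟩
  exact mem_L s

theorem fst_injective : Function.Injective ((MonoidHom.fst Sp (Equiv.Perm (Fin 63))).comp S.subtype) := by
  rw [← MonoidHom.ker_eq_bot_iff, eq_bot_iff]
  rintro ⟨⟨g, σ⟩, hx⟩ h
  have hg : g = 1 := h
  subst hg
  have := fst_one (S_le hx)
  subst this
  rfl

theorem snd_injective : Function.Injective ((MonoidHom.snd Sp (Equiv.Perm (Fin 63))).comp S.subtype) := by
  rw [← MonoidHom.ker_eq_bot_iff, eq_bot_iff]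
  rintro ⟨⟨g, σ⟩, hx⟩ h
  have hg : σ = 1 := h
  subst hg
  have := snd_one (S_le hx)
  subst this
  rfl

theorem snd_range : ((MonoidHom.snd Sp (Equiv.Perm (Fin 63))).comp S.subtype).range =
    Subgroup.closure (Set.range U33.sig) := by
  rw [MonoidHom.range_comp, Subgroup.range_subtype]
  unfold S
  rw [MonoidHom.map_closure]
  congr 1
  ext σ
  constructor
  · rintro ⟨_, ⟨s, rfl⟩, rfl⟩
    exact ⟨s, rfl⟩
  · rintro ⟨s, rfl⟩
    exact ⟨_, ⟨s, rfl⟩, rfl⟩

theorem exists_hom : ∃ f : PSU 3 U33.K9 3 →* Sp, Function.Injective f := by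
  obtain ⟨e⟩ := SporadicStructure.PsuMatch.psu_iso_closure_of_match (K := U33.K9) (X := Fin 63) (ι := Fin 4) (n := 3) (q := 3)
    U33.card_k9 le_rfl U33.vec (fun i j c hc h => U33.vec_nonprop i j c hc h) U33.su U33.sig
    (fun j i => U33.su_mulVec j i) (by rw [HundredAbs.card_psu_three]; exact U33.card_closure_sig)
  let e1 : ↥S ≃* ↥((MonoidHom.snd Sp (Equiv.Perm (Fin 63))).comp S.subtype).range := MonoidHom.ofInjective snd_injective
  let e2 : PSU 3 U33.K9 3 ≃* ↥S := (e.trans (MulEquiv.subgroupCongr snd_range.symm)).trans e1.symm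
  exact ⟨((MonoidHom.fst Sp (Equiv.Perm (Fin 63))).comp S.subtype).comp e2.toMonoidHom, fst_injective.comp e2.injective⟩

theorem simple : IsSimpleGroup (PSU 3 U33.K9 3) :=
  S0283.result (by rw [U33.card_k9]; norm_num) 3 le_rfl (by norm_num)

theorem nc : ∃ a b : PSU 3 U33.K9 3, a * b ≠ b * a := by
  by_contra hcon
  push Not at hcon
  have hs := simple
  let _ : CommGroup (PSU 3 U33.K9 3) := { (inferInstance : Group (PSU 3 U33.K9 3)) with mul_comm := hcon }
  have hfin : Finite (PSU 3 U33.K9 3) := Nat.finite_of_card_ne_zero (by rw [HundredAbs.card_psu_three]; norm_num)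
  have h1 := IsSimpleGroup.prime_card (α := PSU 3 U33.K9 3)
  rw [HundredAbs.card_psu_three] at h1
  norm_num at h1

theorem exists_hom' : ∃ f : PSU 3 U33.K9 3 →* PSp 3 (ZMod 2), Function.Injective f := by
  obtain ⟨f, hf⟩ := exists_hom
  have hs := simple
  obtain ⟨a, b, hab⟩ := nc
  exact ⟨_, TS.Base.mk_injective hab f hf⟩

/-- **A5**: `U₃(3) ≤ Sp₆(2)` -/
theorem sub : Sub.{u} (.psp 3 2) (.psu 3 3) := by
  rintro X _ ⟨F, _, _, hF, ⟨e⟩⟩
  obtain ⟨f, hf⟩ := exists_hom'
  let σ : ZMod 2 ≃+* F := ZMod.ringEquivOfPrime F Nat.prime_two hF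
  let g : PSU 3 U33.K9 3 →* X :=
    (e.symm.toMonoidHom.comp (LieClassical.FieldTransfer.pspCongr 3 σ).toMonoidHom).comp f
  have hg : Function.Injective g := (e.symm.injective.comp (LieClassical.FieldTransfer.pspCongr 3 σ).injective).comp hf
  exact ⟨g.range, U33.K9, inferInstance, inferInstance, U33.card_k9', ⟨(MonoidHom.ofInjective hg).symm⟩⟩

end Cfsg.Agent.H860.TS.SpSix
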